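import Groth.Agent.UFDExtLib.Densify
import Groth.Agent.FinPicLib.Main

/-!
# Invertible modules on open subschemes of factorial affine schemes
-/

set_option autoImplicit false
set_option maxHeartbeats 1000000
universe u

open CategoryTheory CategoryTheory.Limits AlgebraicGeometry TopologicalSpace Opposite
open AmpleLib (res GenAt GenOn)
open UFDExtLib (UnitAt)

noncomputable section

namespace PicUFDLib

/-- An element of the fraction field which is a unit at all primes avoiding `c` is a unit fraction over `c`. -/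
theorem exists_pow_mul_eq {R K : Type u} [CommRing R] [Field K] [Algebra R K] (c : R) (w : K)
    (h : ∀ P : Ideal R, P.IsPrime → c ∉ P → UnitAt P w) :
    ∃ (a : R) (n : ℕ), w * algebraMap R K (c ^ n) = algebraMap R K a := by
  let I : Ideal R :=
    { carrier := {b | ∃ a, w * algebraMap R K b = algebraMap R K a}
      add_mem' := by
        rintro _ _ ⟨a, ha⟩ ⟨a', ha'⟩
        exact ⟨a + a', by rw [map_add, mul_add, ha, ha', map_add]⟩
      zero_mem' := ⟨0, by rw [map_zero, mul_zero]⟩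
      smul_mem' := by
        rintro r b ⟨a, ha⟩
        exact ⟨r * a, by rw [smul_eq_mul, map_mul, mul_left_comm, ha, map_mul]⟩ }
  by_contra hn
  push Not at hn
  obtain ⟨P, hP, hle, hdisj⟩ := Ideal.exists_le_prime_disjoint I (Submonoid.powers c)
    (Set.disjoint_left.mpr fun x hx ⟨n, e⟩ => by
      obtain ⟨a, ha⟩ := hx
      exact hn a n (by rw [← ha, ← e]))
  obtain ⟨a, b, -, hb, hw⟩ := h P hP fun hc => Set.disjoint_left.mp hdisj hc ⟨1, pow_one c⟩
  exact hb (hle ⟨a, hw⟩)

variable {X : Scheme.{u}} [IsIntegral X]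

/-- value in the function field -/
def val {W : X.Opens} (hW : genericPoint X ∈ W) : Γ(X, W) →+* X.functionField :=
  (X.presheaf.germ W _ hW).hom

theorem val_injective {W : X.Opens} (hW : genericPoint X ∈ W) : Function.Injective (val hW) :=
  germ_injective_of_isIntegral X _ hW

theorem val_res {W W' : X.Opens} (h : W' ≤ W) (hW' : genericPoint X ∈ W') (r : Γ(X, W)) :
    val hW' (X.presheaf.map (homOfLE h).op r) = val (h hW') r :=
  TopCat.Presheaf.germ_res_apply _ _ _ _ _

/-- Ratios of generators are units. -/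
theorem exists_ratio {M : X.Modules} {W : X.Opens} {σ τ : Γ(M, W)} (hσ : GenOn M σ) (hτ : GenOn M τ) :
    ∃ r : Γ(X, W), IsUnit r ∧ r • σ = τ := by
  obtain ⟨r, hr⟩ := (hσ W le_rfl).2 τ
  dsimp only at hr
  rw [AmpleLib.res_refl] at hr
  exact ⟨r, FinPicLib.gen_unit hσ hτ hr, hr⟩

theorem exists_genOn_of_ufd [IsAffine X] [UniqueFactorizationMonoid Γ(X, ⊤)] (U : X.Opens) (M : X.Modules)
    (hM : ∀ x ∈ U, ∃ O : X.Opens, x ∈ O ∧ O ≤ U ∧ ∃ g : Γ(M, O), GenOn M g) :
    ∃ σ : Γ(M, U), GenOn M σ := by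
  classical
  by_cases hU : ∀ z, z ∉ U
  · exact ⟨0, FinPicLib.genOn_zero hU⟩
  push Not at hU
  obtain ⟨x₀, hx₀⟩ := hU
  let A := Γ(X, ⊤)
  haveI : Nonempty (⊤ : X.Opens) := ⟨⟨genericPoint X, trivial⟩⟩
  haveI : IsDomain A := IsIntegral.component_integral ⊤
  letI : Algebra A X.functionField := (val (W := ⊤) trivial).toAlgebra
  haveI : IsFractionRing A X.functionField :=
    functionField_isFractionRing_of_isAffineOpen X ⊤ (isAffineOpen_top X)
  let K := X.functionField
  -- trivialising basic opens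
  let ι := {c : A // c ≠ 0 ∧ X.basicOpen c ≤ U ∧ ∃ g : Γ(M, X.basicOpen c), GenOn M g}
  have hη : ∀ i : ι, genericPoint X ∈ X.basicOpen i.1 := fun i => by
    rw [X.mem_basicOpen_top]
    refine IsUnit.mk0 (G₀ := X.functionField) _ fun h => i.2.1 (val_injective (W := ⊤) trivial ?_)
    rw [map_zero]; exact h
  have hcov : ∀ x ∈ U, ∃ i : ι, x ∈ X.basicOpen i.1 := fun x hx => by
    obtain ⟨O, hxO, hOU, g, hg⟩ := hM x hx
    obtain ⟨c, hc, hxc⟩ := (isAffineOpen_top X).exists_basicOpen_le (V := O) ⟨x, hxO⟩ trivial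
    refine ⟨⟨c, fun h0 => ?_, hc.trans hOU, _, hg.res hc⟩, hxc⟩
    rw [h0, Scheme.basicOpen_zero] at hxc
    exact hxc
  choose e he using fun i : ι => i.2.2.2
  obtain ⟨i₀, -⟩ := hcov x₀ hx₀
  -- transition functions
  have htr : ∀ i j : ι, ∃ r : Γ(X, X.basicOpen i.1 ⊓ X.basicOpen j.1), IsUnit r ∧
      r • res M inf_le_right (e j) = res M inf_le_left (e i) := fun i j =>
    exists_ratio ((he j).res inf_le_right) ((he i).res inf_le_left)
  choose t htu ht using htr
  let T : ι → ι → K := fun i j => val (W := X.basicOpen i.1 ⊓ X.basicOpen j.1) ⟨hη i, hη j⟩ (t i j)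
  have hT0 : ∀ i j, T i j ≠ 0 := fun i j => ((htu i j).map _).ne_zero
  have hcocycle : ∀ i j k, T i k = T i j * T j k := fun i j k => by
    let W : X.Opens := X.basicOpen i.1 ⊓ X.basicOpen j.1 ⊓ X.basicOpen k.1
    have hW : genericPoint X ∈ W := ⟨⟨hη i, hη j⟩, hη k⟩
    have hik : W ≤ X.basicOpen i.1 ⊓ X.basicOpen k.1 := le_inf (inf_le_left.trans inf_le_left) inf_le_right
    have hij : W ≤ X.basicOpen i.1 ⊓ X.basicOpen j.1 := inf_le_left
    have hjk : W ≤ X.basicOpen j.1 ⊓ X.basicOpen k.1 := le_inf (inf_le_left.trans inf_le_right) inf_le_right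
    have h1 := congrArg (res M hik) (ht i k)
    have h2 := congrArg (res M hij) (ht i j)
    have h3 := congrArg (res M hjk) (ht j k)
    simp only [AmpleLib.res_smul, AmpleLib.res_res] at h1 h2 h3
    rw [← h3, smul_smul] at h2
    have h4 := (he k (W) inf_le_right).1 (h1.trans h2.symm)
    simp only [T]
    rw [← val_res hik hW, ← val_res hij hW, ← val_res hjk hW, ← map_mul, ← h4]
  have hpow : ∀ (c : A) (W : X.Opens) (hc : W = X.basicOpen c) (hW : genericPoint X ∈ W) (r : Γ(X, W)),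
      ∃ (a : A) (n : ℕ), val hW r * algebraMap A K (c ^ n) = algebraMap A K a := by
    rintro c W rfl hW r
    haveI := (isAffineOpen_top X).isLocalization_basicOpen c
    obtain ⟨⟨a, _, n, rfl⟩, h⟩ := IsLocalization.surj (Submonoid.powers c) r
    refine ⟨a, n, ?_⟩
    have h' := congrArg (val hW) h
    rw [map_mul] at h'
    dsimp only at h'
    simp only [RingHom.algebraMap_toAlgebra] at h'
    rw [show X.presheaf.map (homOfLE (X.basicOpen_le c)).op (c ^ n) =
      X.presheaf.map (homOfLE (le_top : X.basicOpen c ≤ ⊤)).op (c ^ n) from rfl] at h'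
    erw [val_res, val_res] at h'
    exact h'
  have hTunit : ∀ (i j : ι) (P : Ideal A), P.IsPrime → i.1 ∉ P → j.1 ∉ P → UnitAt P (T i j) := by
    intro i j P hP hi hj
    have e1 : X.basicOpen i.1 ⊓ X.basicOpen j.1 = X.basicOpen (i.1 * j.1) := (X.basicOpen_mul _ _).symm
    obtain ⟨a, n, ha⟩ := hpow (i.1 * j.1) _ e1 ⟨hη i, hη j⟩ (t i j)
    obtain ⟨b, m, hb⟩ := hpow (i.1 * j.1) _ e1 ⟨hη i, hη j⟩ (↑(htu i j).unit⁻¹)
    have hij : i.1 * j.1 ∉ P := hP.mul_notMem hi hj
    refine ⟨a, (i.1 * j.1) ^ n, fun haP => hij (hP.mem_of_pow_mem (n + m) ?_),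
      fun h => hij (hP.mem_of_pow_mem n h), ha⟩
    have hab : a * b = (i.1 * j.1) ^ (n + m) := IsFractionRing.injective A K (by
      rw [map_mul, ← ha, ← hb, pow_add, map_mul, mul_mul_mul_comm, ← map_mul, IsUnit.mul_val_inv, map_one,
        one_mul])
    rw [← hab]
    exact P.mul_mem_right _ haP
  -- representatives of the prime divisors of the first chart
  let S : Finset A := ((UniqueFactorizationMonoid.factors i₀.1).map Associates.mk).toFinset.image Quotient.out
  let S' : Finset A := S.filter fun π => ∃ i : ι, ¬ π ∣ i.1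
  have hSp : ∀ π ∈ S, Prime π := fun π hπ => by
    simp only [S, Finset.mem_image, Multiset.mem_toFinset, Multiset.mem_map] at hπ
    obtain ⟨_, ⟨q, hq, rfl⟩, rfl⟩ := hπ
    exact (Associates.mk_eq_mk_iff_associated.mp (Quotient.out_eq (Associates.mk q))).symm.prime
      (UniqueFactorizationMonoid.prime_of_factor q hq)
  have hS : ∀ π : A, Prime π → π ∣ i₀.1 → ∃ π' ∈ S, Associated π π' := fun π hπ hd => by
    obtain ⟨q, hq, hqa⟩ := UniqueFactorizationMonoid.exists_mem_factors_of_dvd i₀.2.1 hπ.irreducible hd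
    refine ⟨Quotient.out (Associates.mk q), ?_, hqa.trans ?_⟩
    · simp only [S, Finset.mem_image, Multiset.mem_toFinset, Multiset.mem_map]
      exact ⟨_, ⟨q, hq, rfl⟩, rfl⟩
    · exact Associates.mk_eq_mk_iff_associated.mp (Quotient.out_eq (Associates.mk q)).symm
  have hS2 : ∀ π ∈ S', ∀ π' ∈ S', π ≠ π' → ¬ π ∣ π' := fun π hπ π' hπ' hne hd => hne (by
    have hass := (hSp π (Finset.mem_filter.mp hπ).1).associated_of_dvd (hSp π' (Finset.mem_filter.mp hπ').1) hd
    have h1 := (Finset.mem_filter.mp hπ).1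
    have h2 := (Finset.mem_filter.mp hπ').1
    simp only [S, Finset.mem_image] at h1 h2
    obtain ⟨p, -, rfl⟩ := h1
    obtain ⟨p', -, rfl⟩ := h2
    have : p = p' := by
      rw [← Quotient.out_eq p, ← Quotient.out_eq p']
      exact Associates.mk_eq_mk_iff_associated.mpr hass
    rw [this])
  let idx : A → ι := fun π => if h : ∃ i : ι, ¬ π ∣ i.1 then h.choose else i₀
  have hidx : ∀ π ∈ S', ¬ π ∣ (idx π).1 := fun π hπ => by
    simp only [idx, dif_pos (Finset.mem_filter.mp hπ).2]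
    exact (Finset.mem_filter.mp hπ).2.choose_spec
  obtain ⟨d, hd0, hdS, hdN⟩ := UFDExtLib.exists_lift (R := A) (K := K) S'
    (fun π hπ => hSp π (Finset.mem_filter.mp hπ).1) hS2 (fun π => T (idx π) i₀) (fun π _ => hT0 _ _)
  have hw : ∀ (i : ι) (P : Ideal A), P.IsPrime → i.1 ∉ P → UnitAt P (T i i₀ / d) := by
    intro i P hP hi
    haveI := hP
    refine UFDExtLib.unitAt_of_primes (div_ne_zero (hT0 _ _) hd0) fun π hπ hπP => ?_
    haveI hsp : (Ideal.span {π}).IsPrime := (Ideal.span_singleton_prime hπ.ne_zero).mpr hπ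
    have hni : ¬ π ∣ i.1 := fun ⟨r, hr⟩ => hi (hr ▸ P.mul_mem_right _ hπP)
    have hi' : i.1 ∉ Ideal.span {π} := fun h => hni (Ideal.mem_span_singleton.mp h)
    by_cases hdiv : ∃ π' ∈ S', π ∣ π'
    · obtain ⟨π', hπ', hd'⟩ := hdiv
      have hass := hπ.associated_of_dvd (hSp π' (Finset.mem_filter.mp hπ').1) hd'
      have hsp' : Ideal.span {π} = Ideal.span ({π'} : Set A) := Ideal.span_singleton_eq_span_singleton.mpr hass
      rw [hcocycle i (idx π') i₀, mul_div_assoc]
      refine UFDExtLib.unitAt_mul (hTunit i (idx π') _ hsp hi' fun h => hidx π' hπ' ?_) (hsp' ▸ hdS π' hπ')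
      exact hass.symm.dvd.trans (Ideal.mem_span_singleton.mp h)
    · push Not at hdiv
      rw [div_eq_mul_inv]
      refine UFDExtLib.unitAt_mul (hTunit i i₀ _ hsp hi' fun h => ?_) (UFDExtLib.unitAt_inv (hdN π hπ hdiv))
      obtain ⟨π', hπ', hass⟩ := hS π hπ (Ideal.mem_span_singleton.mp h)
      exact hdiv π' (Finset.mem_filter.mpr ⟨hπ', i, fun h' => hni (hass.dvd.trans h')⟩) hass.dvd
  -- the normalised generators
  have hsec : ∀ (i : ι) (w : K), (∀ P : Ideal A, P.IsPrime → i.1 ∉ P → UnitAt P w) →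
      ∃ r : Γ(X, X.basicOpen i.1), val (hη i) r = w := by
    intro i w h
    obtain ⟨a, n, ha⟩ := exists_pow_mul_eq i.1 w h
    have hu : IsUnit (X.presheaf.map (homOfLE (X.basicOpen_le i.1)).op i.1) :=
      RingedSpace.isUnit_res_basicOpen _ _
    refine ⟨↑(hu.pow n).unit⁻¹ * X.presheaf.map (homOfLE (X.basicOpen_le i.1)).op a, ?_⟩
    have hne : algebraMap A K (i.1 ^ n) ≠ 0 :=
      (map_ne_zero_iff _ (IsFractionRing.injective A K)).mpr (pow_ne_zero n i.2.1)
    refine mul_right_cancel₀ hne (Eq.trans ?_ ha.symm)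
    have e1 : ∀ b : A, val (hη i) (X.presheaf.map (homOfLE (X.basicOpen_le i.1)).op b) = algebraMap A K b :=
      fun b => val_res _ _ b
    rw [map_mul, e1, mul_comm, ← mul_assoc, ← e1, ← map_mul, map_pow, IsUnit.mul_val_inv, map_one, one_mul]
  have hs : ∀ i : ι, ∃ σ : Γ(M, X.basicOpen i.1), GenOn M σ ∧
      ∃ r : Γ(X, X.basicOpen i.1), σ = r • e i ∧ val (hη i) r = d / T i i₀ := by
    intro i
    obtain ⟨r, hr⟩ := hsec i (T i i₀ / d) (hw i)
    obtain ⟨r', hr'⟩ := hsec i (d / T i i₀) (fun P hP hP' => by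
      haveI := hP
      rw [← inv_div]; exact UFDExtLib.unitAt_inv (hw i P hP hP'))
    have hu : IsUnit r' := IsUnit.of_mul_eq_one r (val_injective (hη i) (by
      rw [map_mul, hr, hr', map_one, div_mul_div_comm, mul_comm d, div_self (mul_ne_zero (hT0 _ _) hd0)]))
    refine ⟨r' • e i, TwistLib.genOn_of_genAt fun z hz => ?_, r', rfl, hr'⟩
    exact (AmpleLib.genAt_smul_iff r' (e i) hz ((he i).genAt hz)).mpr
      ((X.mem_basicOpen r' z hz).mpr (hu.map _))
  choose σ hσ r hσr hr using hs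
  obtain ⟨s, hsres, -⟩ := TopCat.Sheaf.existsUnique_gluing' (Coh.toAb M) (fun i : ι => X.basicOpen i.1) U
    (fun i => homOfLE i.2.2.1) (fun z hz => Opens.mem_iSup.mpr (hcov z hz)) σ (fun i j => by
      change res M inf_le_left (σ i) = res M inf_le_right (σ j)
      rw [hσr i, hσr j, AmpleLib.res_smul, AmpleLib.res_smul, ← ht i j, smul_smul]
      refine congrArg (· • _) (val_injective (show genericPoint X ∈ X.basicOpen i.1 ⊓ X.basicOpen j.1 from ⟨hη i, hη j⟩) ?_)
      rw [map_mul, val_res, val_res]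
      change val _ (r i) * T i j = val _ (r j)
      rw [hr i, hr j, hcocycle i j i₀]
      field_simp [hT0 i j, hT0 j i₀])
  refine ⟨s, TwistLib.genOn_of_genAt fun z hz => ?_⟩
  obtain ⟨i, hi⟩ := hcov z hz
  have h := congrArg (fun τ => M.presheaf.germ (X.basicOpen i.1) z hi τ) (hsres i)
  have e1 : M.presheaf.germ U z hz s = M.presheaf.germ (X.basicOpen i.1) z hi (σ i) :=
    (TopCat.Presheaf.germ_res_apply M.presheaf (homOfLE i.2.2.1) z hi s).symm.trans h
  have h2 := (hσ i).genAt hi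
  unfold GenAt at h2 ⊢
  rwa [e1]

theorem nonempty_iso_of_ufd [IsAffine X] [UniqueFactorizationMonoid Γ(X, ⊤)] (U : X.Opens)
    (L : (U : Scheme.{u}).Modules) (hL : PicF.IsInvertible L) :
    Nonempty (L ≅ Coh.structureModule (U : Scheme.{u})) := by
  let M := (Scheme.Modules.pushforward U.ι).obj L
  let i := asIso ((Scheme.Modules.restrictAdjunction U.ι).counit.app L)
  have hM : PicF.IsInvertible (M.restrict U.ι) := fun x => by
    obtain ⟨O, hO, ⟨j⟩⟩ := hL x
    exact ⟨O, hO, ⟨(Scheme.Modules.restrictFunctor O.ι).mapIso i ≪≫ j⟩⟩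
  obtain ⟨σ, hσ⟩ := exists_genOn_of_ufd U M fun x hx => UFDExtLib.exists_gen_of_restrict hM hx
  obtain ⟨j⟩ := TwistLib.nonempty_iso_of_genOn σ hσ
  exact ⟨i.symm ≪≫ j⟩

end PicUFDLib
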